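/-
CLAS/T2 (S2193, 2-transitive actions of the simple groups of Lie type): definitions.
-/
import Cfsg.Prelude.Def_LieTypeChar
import Mathlib.GroupTheory.GroupAction.Quotient
import Mathlib.GroupTheory.Index
import Mathlib.GroupTheory.PGroup

set_option autoImplicit false

namespace CL.T2

open MulAction

/-- a 2-transitive action on a set with at least two points -/
structure Tw (G Ω : Type*) [Group G] [MulAction G Ω] : Prop where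
  nt : Nontrivial Ω
  two : ∀ a b c d : Ω, a ≠ b → c ≠ d → ∃ g : G, g • a = c ∧ g • b = d

variable {G : Type*} [Group G]

/-- `P` is transitive on `Ω` -/
def Tr (P : Subgroup G) (Ω : Type*) [MulAction G Ω] : Prop := ∀ a b : Ω, ∃ g ∈ P, g • a = b

/-- `X` is semiregular on `Ω` -/
def Semi (X : Subgroup G) (Ω : Type*) [MulAction G Ω] : Prop := ∀ x ∈ X, ∀ ω : Ω, x • ω = ω → x = 1

/-- `X` acts trivially on `Ω` -/
def Triv (X : Subgroup G) (Ω : Type*) [MulAction G Ω] : Prop := ∀ x ∈ X, ∀ ω : Ω, x • ω = ω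

/-- `P` normalises `X` -/
def Nz (P X : Subgroup G) : Prop := ∀ g ∈ P, ∀ x ∈ X, g * x * g⁻¹ ∈ X

/-- the elements fixing every `Q`-orbit -/
def okr (Q : Subgroup G) (Ω : Type*) [MulAction G Ω] : Subgroup G where
  carrier := {g | ∀ ω : Ω, ∃ x ∈ Q, g • ω = x • ω}
  one_mem' ω := ⟨1, one_mem _, rfl⟩
  mul_mem' {a b} ha hb ω := by
    obtain ⟨x, hx, e⟩ := hb ω
    obtain ⟨y, hy, e'⟩ := ha (x • ω)
    exact ⟨y * x, mul_mem hy hx, by rw [mul_smul, e, e', mul_smul]⟩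
  inv_mem' {a} ha ω := by
    obtain ⟨x, hx, e⟩ := ha (a⁻¹ • ω)
    exact ⟨x⁻¹, inv_mem hx, by rw [eq_inv_smul_iff, ← e, smul_inv_smul]⟩

/-- `Q` is a Heisenberg group over `Z` -/
structure Heis (Q Z : Subgroup G) : Prop where
  le : Z ≤ Q
  cen : ∀ z ∈ Z, ∀ x ∈ Q, x * z = z * x
  comm : ∀ x ∈ Q, ∀ y ∈ Q, x * y * x⁻¹ * y⁻¹ ∈ Z
  nd : ∀ x ∈ Q, x ∉ Z → ∀ z ∈ Z, ∃ y ∈ Q, x * y * x⁻¹ * y⁻¹ = z

/-- the conclusion of S2193 -/
def Concl (G : Type*) [Group G] (n : ℕ) : Prop :=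
    (∃ (F : Type) (_ : Field F) (_ : Fintype F) (l : ℕ), 3 ≤ l ∧ Nonempty (G ≃* Matrix.ProjectiveSpecialLinearGroup (Fin l) F) ∧ n * (Fintype.card F - 1) = Fintype.card F ^ l - 1) ∨
    (∃ (F : Type) (_ : Field F) (_ : Fintype F), 4 ≤ Fintype.card F ∧ Nonempty (G ≃* Matrix.ProjectiveSpecialLinearGroup (Fin 2) F) ∧ n = Fintype.card F + 1) ∨
    (∃ (F : Type) (_ : Field F) (_ : Fintype F) (q : ℕ), 3 ≤ q ∧ Fintype.card F = q ^ 2 ∧ Nonempty (G ≃* Cfsg.PSU 3 F q) ∧ n = q ^ 3 + 1) ∨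
    (∃ (F : Type) (_ : Field F) (_ : Fintype F) (m : ℕ), 1 ≤ m ∧ Fintype.card F = 2 ^ (2 * m + 1) ∧ Nonempty (G ≃* ↥(Cfsg.Lie.Sz F (2 ^ (m + 1)))) ∧ n = Fintype.card F ^ 2 + 1) ∨
    (∃ (K : Type) (_ : Field K) (_ : Fintype K) (m : ℕ), 1 ≤ m ∧ Fintype.card K = 3 ^ (2 * m + 1) ∧ Nonempty (G ≃* ↥(Cfsg.Lie.twistedG2 K (3 ^ m))) ∧ n = Fintype.card K ^ 3 + 1) ∨
    (∃ (F : Type) (_ : Field F) (_ : Fintype F), Fintype.card F = 9 ∧ Nonempty (G ≃* Matrix.ProjectiveSpecialLinearGroup (Fin 2) F) ∧ n = 6) ∨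
    (∃ (F : Type) (_ : Field F) (_ : Fintype F), Fintype.card F = 11 ∧ Nonempty (G ≃* Matrix.ProjectiveSpecialLinearGroup (Fin 2) F) ∧ n = 11) ∨
    (∃ (F : Type) (_ : Field F) (_ : Fintype F), Fintype.card F = 2 ∧ Nonempty (G ≃* Matrix.ProjectiveSpecialLinearGroup (Fin 4) F) ∧ n = 8) ∨
    (∃ (F : Type) (_ : Field F) (_ : Fintype F) (m : ℕ), 3 ≤ m ∧ Fintype.card F = 2 ∧ Nonempty (G ≃* Cfsg.PSp m F) ∧ (n = 2 ^ (m - 1) * (2 ^ m + 1) ∨ n = 2 ^ (m - 1) * (2 ^ m - 1)))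

theorem Concl.of_equiv {H : Type*} [Group H] (e : G ≃* H) {n : ℕ} (h : Concl H n) : Concl G n := by
  rcases h with ⟨F, _, _, l, h, ⟨f⟩, h'⟩ | ⟨F, _, _, h, ⟨f⟩, h'⟩ | ⟨F, _, _, q, h, h₁, ⟨f⟩, h'⟩ |
    ⟨F, _, _, q, h, h₁, ⟨f⟩, h'⟩ | ⟨F, _, _, q, h, h₁, ⟨f⟩, h'⟩ | ⟨F, _, _, h, ⟨f⟩, h'⟩ |
    ⟨F, _, _, h, ⟨f⟩, h'⟩ | ⟨F, _, _, h, ⟨f⟩, h'⟩ | ⟨F, _, _, q, h, h₁, ⟨f⟩, h'⟩
  · exact .inl ⟨F, _, _, l, h, ⟨e.trans f⟩, h'⟩
  · exact .inr (.inl ⟨F, _, _, h, ⟨e.trans f⟩, h'⟩)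
  · exact .inr (.inr (.inl ⟨F, _, _, q, h, h₁, ⟨e.trans f⟩, h'⟩))
  · exact .inr (.inr (.inr (.inl ⟨F, _, _, q, h, h₁, ⟨e.trans f⟩, h'⟩)))
  · exact .inr (.inr (.inr (.inr (.inl ⟨F, _, _, q, h, h₁, ⟨e.trans f⟩, h'⟩))))
  · exact .inr (.inr (.inr (.inr (.inr (.inl ⟨F, _, _, h, ⟨e.trans f⟩, h'⟩)))))
  · exact .inr (.inr (.inr (.inr (.inr (.inr (.inl ⟨F, _, _, h, ⟨e.trans f⟩, h'⟩))))))
  · exact .inr (.inr (.inr (.inr (.inr (.inr (.inr (.inl ⟨F, _, _, h, ⟨e.trans f⟩, h'⟩)))))))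
  · exact .inr (.inr (.inr (.inr (.inr (.inr (.inr (.inr ⟨F, _, _, q, h, h₁, ⟨e.trans f⟩, h'⟩)))))))

variable {Ω : Type*} [MulAction G Ω]

theorem mem_okr {Q : Subgroup G} {g : G} : g ∈ okr Q Ω ↔ ∀ ω : Ω, ∃ x ∈ Q, g • ω = x • ω := Iff.rfl

theorem le_okr (Q : Subgroup G) : Q ≤ okr Q Ω := fun x hx _ => ⟨x, hx, rfl⟩

theorem Nz.okr {P Q : Subgroup G} (h : Nz P Q) : Nz P (okr Q Ω) := fun g hg a ha ω => by
  obtain ⟨x, hx, e⟩ := ha (g⁻¹ • ω)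
  exact ⟨g * x * g⁻¹, h g hg x hx, by simp only [mul_smul, e]⟩

theorem Tr.mono {P P' : Subgroup G} (h : Tr P Ω) (h' : P ≤ P') : Tr P' Ω := fun a b =>
  let ⟨g, hg, e⟩ := h a b; ⟨g, h' hg, e⟩

theorem Tr.of_okr {P Q : Subgroup G} (h : Tr P Ω) (h' : P ≤ okr Q Ω) : Tr Q Ω := fun a b => by
  obtain ⟨g, hg, e⟩ := h a b
  obtain ⟨x, hx, e'⟩ := h' hg a
  exact ⟨x, hx, e'.symm.trans e⟩

theorem Semi.conj {Z : Subgroup G} (h : Semi Z Ω) {x g : G} (hx : g * x * g⁻¹ ∈ Z) {ω : Ω} (e : x • ω = ω) :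
    x = 1 := by
  have := h _ hx (g • ω) (by simp only [mul_smul, inv_smul_smul, e])
  simpa using this

namespace Tw

variable (h : Tw G Ω)
include h

theorem pre : IsPretransitive G Ω := ⟨fun a c => by
  have := h.nt
  obtain ⟨b, hb⟩ := exists_ne a
  obtain ⟨d, hd⟩ := exists_ne c
  obtain ⟨g, e, -⟩ := h.two a b c d hb.symm hd.symm
  exact ⟨g, e⟩⟩

theorem tr_top : Tr (⊤ : Subgroup G) Ω := fun a b =>
  let ⟨g, e⟩ := h.pre.1 a b; ⟨g, trivial, e⟩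

theorem comp {H : Type*} [Group H] (π : H →* G) (hπ : Function.Surjective π) :
    letI := MulAction.compHom Ω π; Tw H Ω := by
  letI := MulAction.compHom Ω π
  refine ⟨h.nt, fun a b c d h1 h2 => ?_⟩
  obtain ⟨g, e⟩ := h.two a b c d h1 h2
  obtain ⟨g, rfl⟩ := hπ g
  exact ⟨g, e⟩

theorem index (ω : Ω) : (stabilizer G ω).index = Nat.card Ω := by
  have := h.pre
  exact index_stabilizer_of_transitive G ω

theorem stab_ne_top (ω : Ω) : stabilizer G ω ≠ ⊤ := fun e => by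
  have := h.nt
  obtain ⟨b, hb⟩ := exists_ne ω
  obtain ⟨g, rfl⟩ := h.pre.1 ω b
  exact hb (show g ∈ stabilizer G ω from e ▸ trivial)

theorem two_le [Finite Ω] : 2 ≤ Nat.card Ω := by
  have := h.nt
  exact Finite.one_lt_card

/-- a lower bound for the index of proper subgroups bounds the degree -/
theorem le_card {m : ℕ} (hm : ∀ H : Subgroup G, H ≠ ⊤ → m ≤ H.index) : m ≤ Nat.card Ω := by
  obtain ⟨ω, -⟩ := h.nt
  exact h.index ω ▸ hm _ (h.stab_ne_top ω)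

theorem not_triv {Z : Subgroup G} (hZ : Subgroup.normalClosure (Z : Set G) = ⊤) : ¬ Triv Z Ω := fun ht => by
  obtain ⟨ω, -⟩ := h.nt
  refine h.stab_ne_top ω (top_unique ?_)
  rw [← hZ]
  refine le_trans (Subgroup.normalClosure_le_normal (N := (toPermHom G Ω).ker) fun z hz => ?_) fun g hg => ?_
  · exact Equiv.ext (ht z hz)
  · exact congrFun (congrArg (↑) (MonoidHom.mem_ker.1 hg)) ω

theorem faithful [IsSimpleGroup G] {g : G} (hg : ∀ ω : Ω, g • ω = ω) : g = 1 := by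
  rcases (inferInstance : (toPermHom G Ω).ker.Normal).eq_bot_or_eq_top with e | e
  · exact Subgroup.mem_bot.1 (e ▸ MonoidHom.mem_ker.2 (Equiv.ext hg))
  · obtain ⟨ω, -⟩ := h.nt
    refine (h.stab_ne_top ω (top_unique fun g _ => ?_)).elim
    exact congrFun (congrArg (↑) (MonoidHom.mem_ker.1 (e ▸ trivial : g ∈ (toPermHom G Ω).ker))) ω

end Tw

end CL.T2
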