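/-
CLAS/T2 (S2193): fixed points of `U` on `Q / R` by duality
-/
import Cfsg.Agent.CLAS.T2.Heis

set_option autoImplicit false

namespace CL.T2

variable {G : Type*} [Group G] [Finite G]

/-- every `U`-invariant `R < D ≤ Q` meets `E \ R` -/
theorem dual {p : ℕ} [Fact p.Prime] {U Q Z R X₀ E D : Subgroup G} (hZ : Z ≤ R) (hR : R ≤ Q) (h0 : Z ≠ ⊥)
    (hU : IsPGroup p U) (hQ : Q ≤ U) (hn : Nz U Q) (hnR : Nz U R) (hc : ∀ z ∈ Z, ∀ u ∈ U, u * z = z * u)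
    (cen : ∀ r ∈ R, ∀ x ∈ Q, x * r = r * x) (comm : ∀ x ∈ Q, ∀ y ∈ Q, x * y * x⁻¹ * y⁻¹ ∈ Z)
    (nd : ∀ x ∈ Q, x ∉ R → ∀ z ∈ Z, ∃ y ∈ Q, x * y * x⁻¹ * y⁻¹ = z) (hX : X₀ ≤ Q) (hg : Q ≤ X₀ ⊔ ⁅Q, U⁆ ⊔ R)
    (hEQ : E ≤ Q) (hE : ∀ e ∈ E, ∀ u ∈ U, e * u * e⁻¹ * u⁻¹ ∈ R)
    (hcard : Nat.card X₀ * Nat.card R ≤ Nat.card E) (hD : R ≤ D) (hD' : D ≤ Q) (hne : D ≠ R) (hnD : Nz U D) :
    ∃ d ∈ D, d ∈ E ∧ d ∉ R := by
  obtain ⟨a, haD, haR⟩ := SetLike.not_le_iff_exists.1 fun h : D ≤ R => hne (le_antisymm h hD)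
  obtain ⟨d, -, hdD, hdR, hdC⟩ := Hs.exists_cen hU (· ∈ D) (· ∈ R) (one_mem _) (by
      intro d _ hd u hu
      simpa only [mul_assoc] using mul_mem hd (hnD u hu _ (inv_mem hd))) (hQ (hD' haD)) haD haR
  have cenZ : ∀ z ∈ Z, ∀ x ∈ Q, x * z = z * x := fun z hz => cen z (hZ hz)
  let C : Subgroup G :=
    { carrier := {x | x ∈ Q ∧ ∀ u ∈ U, x * u * x⁻¹ * u⁻¹ ∈ R}
      one_mem' := ⟨one_mem _, fun u _ => by simp⟩
      mul_mem' := by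
        rintro x y ⟨hx, hx'⟩ ⟨hy, hy'⟩
        refine ⟨mul_mem hx hy, fun u hu => ?_⟩
        have e : x * y * u * (x * y)⁻¹ * u⁻¹ = (x * (y * u * y⁻¹ * u⁻¹)) * u * x⁻¹ * u⁻¹ := by group
        rw [e, cen _ (hy' u hu) _ hx]
        simpa only [mul_assoc] using mul_mem (hy' u hu) (hx' u hu)
      inv_mem' := by
        rintro x ⟨hx, hx'⟩
        refine ⟨inv_mem hx, fun u hu => ?_⟩
        have e : x⁻¹ * u * x⁻¹⁻¹ * u⁻¹ = x⁻¹ * (x * u * x⁻¹ * u⁻¹)⁻¹ * x := by group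
        rw [e, cen _ (inv_mem (hx' u hu)) _ (inv_mem hx), inv_mul_cancel_right]
        exact inv_mem (hx' u hu) }
  have hCQ : C ≤ Q := fun x hx => hx.1
  obtain ⟨l, hl, -, z, hz, hlz⟩ := Hs.exists_lam (Z := Z) (A := ⊥) (fun z hz x hx => cenZ z hz x (hR (hZ hx)))
    fun hle => h0 (le_bot_iff.1 hle)
  obtain ⟨Φ, hΦ⟩ := Hs.exists_Phi hCQ cenZ (fun x hx m hm => comm x hx m hm.1) hl
  let Ψ : C →* (X₀ →* ℂˣ) := (MonoidHom.compHom' (Subgroup.inclusion hX)).comp Φ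
  have hΨ : ∀ m x, Ψ m x = Φ m (Subgroup.inclusion hX x) := fun _ _ => rfl
  have h2 := Hs.hom_count' ⊥ Ψ fun b n hn => by rw [Subgroup.mem_bot.1 hn, map_one]
  have h3 : Nat.card Ψ.ker ≤ Nat.card R := by
    refine Nat.card_le_card_of_injective (fun m => ⟨m.1.1, ?_⟩) fun a b e => ?_
    · by_contra hm
      obtain ⟨x, hx, e⟩ := nd _ m.1.2.1 hm z⁻¹ (inv_mem hz)
      have hK : X₀ ⊔ ⁅Q, U⁆ ⊔ R ≤ (Φ m.1).ker.map Q.subtype := by
        refine sup_le (sup_le (fun y hy => ⟨⟨y, hX hy⟩, ?_, rfl⟩) (Subgroup.commutator_le.2 fun q hq u hu => ?_))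
          fun r hr => ⟨⟨r, hR hr⟩, ?_, rfl⟩
        · have := hΨ m.1 ⟨y, hy⟩
          rw [MonoidHom.mem_ker.1 m.2] at this
          exact this.symm
        · refine ⟨⟨q, hq⟩ * ⟨u * q⁻¹ * u⁻¹, hn u hu _ (inv_mem hq)⟩, ?_, by
            simp [commutatorElement_def, mul_assoc]⟩
          have e1 : Φ m.1 ⟨u * q⁻¹ * u⁻¹, hn u hu _ (inv_mem hq)⟩ = Φ m.1 (⟨q, hq⟩ : Q)⁻¹ := by
            rw [hΦ, hΦ]
            congr 1
            generalize hy : (m.1 : G) = y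
            have hyC : y ∈ C := hy ▸ m.1.2
            have h1 := hyC.2 _ (inv_mem hu)
            generalize hw : y * u⁻¹ * y⁻¹ * u⁻¹⁻¹ = w at h1
            have e2 : u⁻¹ * y⁻¹ * u = y⁻¹ * w := by rw [← hw]; group
            have e3 : u⁻¹ * y * u = w⁻¹ * y := by
              rw [← inv_inj, mul_inv_rev (w⁻¹), inv_inv, ← e2]; group
            have h4 := comm _ (inv_mem hq) _ hyC.1
            simp only [Subgroup.coe_inv, inv_inv] at h4 ⊢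
            calc u * q⁻¹ * u⁻¹ * y * (u * q⁻¹ * u⁻¹)⁻¹ * y⁻¹
                = u * (q⁻¹ * (u⁻¹ * y * u) * q * (u⁻¹ * y⁻¹ * u)) * u⁻¹ := by group
              _ = u * ((q⁻¹ * w⁻¹) * y * q * y⁻¹ * w) * u⁻¹ := by rw [e2, e3]; group
              _ = u * (w⁻¹ * ((q⁻¹ * y * q * y⁻¹) * w)) * u⁻¹ := by
                rw [cen _ (inv_mem h1) _ (inv_mem hq)]; group
              _ = u * (q⁻¹ * y * q * y⁻¹) * u⁻¹ := by rw [cen _ h1 _ (hR (hZ h4))]; group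
              _ = _ := by rw [hc _ h4 u hu]; group
          rw [SetLike.mem_coe, MonoidHom.mem_ker, map_mul, e1, ← map_mul, mul_inv_cancel, map_one]
        · rw [SetLike.mem_coe, MonoidHom.mem_ker, hΦ]
          change l (r * m.1 * r⁻¹ * (m.1 : G)⁻¹) = 1
          rw [← cen r hr _ m.1.2.1]
          simpa using Hs.lam_one hl
      obtain ⟨y, hy, ey⟩ := hK (hg hx)
      apply hlz
      have e' : z = x * m.1 * x⁻¹ * (m.1 : G)⁻¹ := by rw [← inv_inj, ← e]; group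
      rw [e', ← show (y : G) = x from ey, ← hΦ]
      exact hy
    · exact Subtype.ext (Subtype.ext (Subtype.mk.inj e))
  have hEC : E ≤ C := fun x hx => ⟨hEQ hx, hE x hx⟩
  have h4 : Nat.card C ≤ Nat.card E := by
    rw [Subgroup.index_bot] at h2
    exact h2.trans ((Nat.mul_le_mul_right _ h3).trans (by rwa [mul_comm]))
  have h5 : E = C := Subgroup.eq_of_le_of_card_ge hEC h4
  exact ⟨d, hdD, by rw [h5]; exact ⟨hD' hdD, hdC⟩, hdR⟩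

end CL.T2
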