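/-
CLAS/T2 (S2193): Fisher-type inequalities for a second action
-/
import Cfsg.Agent.CLAS.T2.Def

set_option autoImplicit false

namespace CL.T2

open MulAction

variable {G Ω Y : Type*} [Group G] [Finite G] [MulAction G Ω] [Finite Ω] [MulAction G Y] [Finite Y]
  [IsPretransitive G Y]

namespace Fish

open Matrix

omit [Finite G] [Finite Ω] [Finite Y] [IsPretransitive G Y]

variable {A B C : Type*} [MulAction G A] [MulAction G B] [MulAction G C]

/-- invariant matrices -/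
def Inv (G : Type*) {A B : Type*} [Group G] [MulAction G A] [MulAction G B] (M : Matrix A B ℚ) : Prop :=
  ∀ (g : G) a b, M (g • a) (g • b) = M a b

/-- the all-one matrix -/
def J (A B : Type*) : Matrix A B ℚ := Matrix.of fun _ _ => 1

theorem J_apply {A B : Type*} (a : A) (b : B) : J A B a b = 1 := rfl

theorem Inv.tr {M : Matrix A B ℚ} (h : Inv G M) : Inv G Mᵀ := fun g a b => h g b a

theorem Inv.mul [Fintype B] {M : Matrix A B ℚ} {N : Matrix B C ℚ} (h : Inv G M) (h' : Inv G N) :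
    Inv G (M * N) := fun g a c => by
  rw [mul_apply, mul_apply, ← Equiv.sum_comp (MulAction.toPerm g)]
  exact Finset.sum_congr rfl fun b _ => by rw [toPerm_apply, h, h']

theorem Inv.row [Fintype B] [IsPretransitive G A] {M : Matrix A B ℚ} (h : Inv G M) (a a' : A) :
    ∑ b, M a b = ∑ b, M a' b := by
  obtain ⟨g, rfl⟩ := exists_smul_eq G a' a
  rw [← Equiv.sum_comp (MulAction.toPerm g)]
  exact Finset.sum_congr rfl fun b _ => by rw [toPerm_apply, h]

theorem mul_J {A B : Type*} [Fintype B] {M : Matrix A B ℚ} {r : ℚ} (h : ∀ a, ∑ b, M a b = r) (C : Type*) :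
    M * J B C = r • J A C := by
  ext a c; simp [mul_apply, J_apply, h]

theorem J_mul {A B : Type*} [Fintype A] {M : Matrix A B ℚ} {r : ℚ} (h : ∀ b, ∑ a, M a b = r) (C : Type*) :
    J C A * M = r • J C B := by
  ext a c; simp [mul_apply, J_apply, h]

theorem inv_eq [DecidableEq Ω] (h : Tw G Ω) {M : Matrix Ω Ω ℚ} (hM : Inv G M) {a b : Ω} (hab : a ≠ b) :
    M = (M a a - M a b) • (1 : Matrix Ω Ω ℚ) + M a b • J Ω Ω := by
  ext c d
  by_cases e : c = d
  · subst e
    obtain ⟨g, rfl⟩ := h.pre.1 a c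
    simp [hM g, J_apply]
  · obtain ⟨g, rfl, rfl⟩ := h.two a b c d hab e
    simp [hM g, J_apply, one_apply_ne e]

theorem exists_M [Fintype Ω] [Fintype Y] [DecidableEq Ω] (h : Tw G Ω) {y : Y} (hy : ¬ Tr (stabilizer G y) Ω) :
    ∃ (M : Matrix Ω Y ℚ) (α l : ℚ), Inv G M ∧ 0 < α ∧ 0 ≤ l ∧ (∀ a, ∑ u, M a u = α + l) ∧
      M * Mᵀ = α • (1 : Matrix Ω Ω ℚ) + l • J Ω Ω := by
  classical
  have := h.pre
  simp only [Tr, not_forall, not_exists, not_and] at hy
  obtain ⟨a, b, hab⟩ := hy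
  let M : Matrix Ω Y ℚ := Matrix.of fun ω u => if ∃ g : G, g • a = ω ∧ g • y = u then 1 else 0
  have hM : ∀ ω u, M ω u = if ∃ g : G, g • a = ω ∧ g • y = u then 1 else 0 := fun _ _ => rfl
  have h01 : ∀ ω u, M ω u = 0 ∨ M ω u = 1 := fun ω u => by rw [hM]; split_ifs <;> simp
  have hI : Inv G M := fun g ω u => by
    rw [hM, hM]
    refine if_congr ⟨fun ⟨k, e, e'⟩ => ⟨g⁻¹ * k, ?_, ?_⟩, fun ⟨k, e, e'⟩ => ⟨g * k, ?_, ?_⟩⟩ rfl rfl <;>
      simp [mul_smul, e, e']
  have h1 : M a y = 1 := if_pos ⟨1, one_smul _ _, one_smul _ _⟩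
  have h0 : M b y = 0 := if_neg fun ⟨g, e, e'⟩ => hab g e' e
  have hne : a ≠ b := fun e => by rw [e, h0] at h1; exact zero_ne_one h1
  have hd : (M * Mᵀ) a a = ∑ u, M a u := by
    rw [mul_apply]
    exact Finset.sum_congr rfl fun u _ => by rcases h01 a u with e | e <;> simp [e]
  refine ⟨M, _, _, hI, ?_, ?_, fun c => ?_, inv_eq h (hI.mul hI.tr) hne⟩
  · rw [mul_apply, mul_apply, ← Finset.sum_sub_distrib]
    refine Finset.sum_pos' (fun u _ => ?_) ⟨y, Finset.mem_univ _, by simp [h1, h0]⟩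
    rcases h01 a u with e | e <;> rcases h01 b u with e' | e' <;> simp [e, e']
  · rw [mul_apply]
    refine Finset.sum_nonneg fun u _ => ?_
    rcases h01 a u with e | e <;> rcases h01 b u with e' | e' <;> simp [e, e']
  · rw [hI.row c a, sub_add_cancel, hd]

theorem inj {Ω Y : Type*} [Fintype Ω] [Fintype Y] [DecidableEq Ω] {M : Matrix Ω Y ℚ} {α l : ℚ} (h1 : 0 < α)
    (h2 : 0 ≤ l) (h : M * Mᵀ = α • (1 : Matrix Ω Ω ℚ) + l • J Ω Ω) : Function.Injective Mᵀ.mulVecLin := by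
  refine (injective_iff_map_eq_zero _).2 fun v hv => ?_
  have e : (M * Mᵀ) *ᵥ v = 0 := by rw [← mulVec_mulVec, show Mᵀ *ᵥ v = 0 from hv, mulVec_zero]
  have e1 : ∀ a, α * v a + l * ∑ b, v b = 0 := fun a => by
    have := congrFun e a
    rw [h, add_mulVec, smul_mulVec, smul_mulVec, one_mulVec] at this
    simpa [mulVec, dotProduct, J_apply] using this
  have e2 : (α + l * Fintype.card Ω) * ∑ b, v b = 0 := by
    have := Finset.sum_eq_zero (s := Finset.univ) fun a _ => e1 a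
    rw [Finset.sum_add_distrib, ← Finset.mul_sum, Finset.sum_const, Finset.card_univ, nsmul_eq_mul] at this
    linear_combination this
  have e3 := (mul_eq_zero.1 e2).resolve_left (by positivity)
  ext a
  have := e1 a
  rw [e3, mul_zero, add_zero] at this
  exact (mul_eq_zero.1 this).resolve_left h1.ne'

end Fish

open Fish Matrix

/-- Fisher.  PROOF (all four theorems): `G_y` has an orbit `Δ ≠ Ω` on `Ω`; let `M` be the 0/1 matrix (over `ℚ`) of
the `G`-orbit of `(ω, y)` (`ω ∈ Δ`) in `Ω × Y`.  Rows have constant sum `r₀ > 0`, columns constant sum `c`,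
`0 < c < n`; `M Mᵀ` is `G`-invariant on `Ω × Ω`, so `M Mᵀ = a I + λ J` with `a = r₀ - λ`, and `a > 0` (if two distinct
rows were equal all rows would be, so columns would be constant, `c ∈ {0, n}`).  `a I + λ J` is invertible, so
`rank M = n ≤ |Y|`. -/
theorem Tw.card_le (h : Tw G Ω) {y : Y} (hy : ¬ Tr (stabilizer G y) Ω) : Nat.card Ω ≤ Nat.card Y := by
  classical
  cases nonempty_fintype Ω
  cases nonempty_fintype Y
  obtain ⟨M, α, l, -, h1, h2, -, h3⟩ := exists_M h hy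
  simpa using LinearMap.finrank_le_finrank_of_injective (inj h1 h2 h3)

/-- (P1)  `¬ Tr G_y Ω ↔ ¬ Tr G_ω Y` (both say `G` is intransitive on `Ω × Y`); apply `card_le` twice. -/
theorem Tw.card_eq (h : Tw G Ω) (hY : Tw G Y) {y : Y} (hy : ¬ Tr (stabilizer G y) Ω) :
    Nat.card Ω = Nat.card Y := by
  have := h.pre
  refine (h.card_le hy).antisymm ?_
  by_contra hlt
  refine hy fun a b => ?_
  have hT : Tr (stabilizer G a) Y := by_contra fun hT => hlt (hY.card_le hT)
  obtain ⟨g, rfl⟩ := h.pre.1 a b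
  obtain ⟨k, hk, e⟩ := hT (g⁻¹ • y) y |>.imp fun k hk => hk
  refine ⟨g * k⁻¹, ?_, by rw [mul_smul, show k⁻¹ • a = a from inv_mem hk]⟩
  rw [mem_stabilizer_iff, mul_smul, ← eq_inv_smul_iff, inv_smul_eq_iff, e]

/-- (P2)  If `n = |Y|`, `M` is square invertible and `C ↦ M C Mᵀ` maps `G`-invariant matrices on `Y × Y` injectively
to `G`-invariant matrices on `Ω × Ω`, i.e. into `span (I, J)`; but `I` and the matrices of two different orbits on
pairs of distinct points are independent. -/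
theorem Tw.card_lt (h : Tw G Ω) (hY : ¬ Tw G Y) {y : Y} (hy : ¬ Tr (stabilizer G y) Ω) :
    Nat.card Ω < Nat.card Y := by
  classical
  cases nonempty_fintype Ω
  cases nonempty_fintype Y
  refine (h.card_le hy).lt_of_ne fun he => hY ⟨?_, fun a b c d hab hcd => ?_⟩
  · exact Finite.one_lt_card_iff_nontrivial.1 (he ▸ h.two_le)
  obtain ⟨M, α, l, hI, h1, h2, hr, h3⟩ := exists_M h hy
  obtain ⟨B, hB⟩ := mulVec_surjective_iff_exists_right_inverse.1
    ((LinearMap.injective_iff_surjective_of_finrank_eq_finrank (by simpa using he)).1 (inj h1 h2 h3))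
  have hB' : Bᵀ * M = 1 := by simpa using congrArg transpose hB
  let C : Matrix Y Y ℚ := Matrix.of fun u v => if ∃ g : G, g • a = u ∧ g • b = v then 1 else 0
  have hC : ∀ u v, C u v = if ∃ g : G, g • a = u ∧ g • b = v then 1 else 0 := fun _ _ => rfl
  have hIC : Fish.Inv G C := fun g ω u => by
    rw [hC, hC]
    refine if_congr ⟨fun ⟨k, e, e'⟩ => ⟨g⁻¹ * k, ?_, ?_⟩, fun ⟨k, e, e'⟩ => ⟨g * k, ?_, ?_⟩⟩ rfl rfl <;>
      simp [mul_smul, e, e']
  obtain ⟨p, q, hpq⟩ := h.nt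
  obtain ⟨x, z, e⟩ : ∃ x z : ℚ, M * C * Mᵀ = x • (1 : Matrix Ω Ω ℚ) + z • J Ω Ω :=
    ⟨_, _, inv_eq h ((hI.mul hIC).mul hI.tr) hpq⟩
  have e1 : M * J Y Y * Mᵀ = (α + l) ^ 2 • J Ω Ω := by
    rw [mul_J hr, Matrix.smul_mul, J_mul (M := Mᵀ) hr, smul_smul, sq]
  have e2 : ∀ D : Matrix Y Y ℚ, Bᵀ * (M * D * Mᵀ) * B = D := fun D => by
    simp only [← Matrix.mul_assoc, hB', Matrix.one_mul]
    rw [Matrix.mul_assoc, hB, Matrix.mul_one]
  have e3 : (α * (α + l) ^ 2) • C = (x * (α + l) ^ 2) • (1 : Matrix Y Y ℚ) + (z * α - x * l) • J Y Y := by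
    rw [← e2 (_ • C), ← e2 (_ + _)]
    congr 2
    simp only [Matrix.mul_add, Matrix.add_mul, Matrix.mul_smul, Matrix.smul_mul, Matrix.mul_one, e, e1, h3]
    module
  have e4 := congrFun (congrFun e3 a) b
  have e5 := congrFun (congrFun e3 c) d
  simp only [Matrix.add_apply, Matrix.smul_apply, one_apply_ne hab, one_apply_ne hcd, J_apply] at e4 e5
  rw [← e4, hC a b, if_pos ⟨1, one_smul _ _, one_smul _ _⟩, hC] at e5
  by_contra hn
  rw [if_neg hn, smul_zero, smul_eq_mul, mul_one] at e5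
  exact absurd e5 (by positivity)

/-- (P6) rank 3 version: `n - 1` is one of the two eigenvalue multiplicities.  `A` = adjacency matrix, `N = |Y|`;
`λ'` (common neighbours of adjacent points, constant by `h1`) satisfies `k (k - λ' - 1) = (N - 1 - k) μ`, so
`λ' = r + s + μ` and `A² = (r + s) A - r s I + μ J`.  `S = Mᵀ M` is invariant: `S = x I + y A + z J`, and
`S² = a S + λ c² J`.  Compare the coefficients of `I`, `A` (`I, A, J` independent as `0 < k < N - 1`):
`x² - y² r s = a x`, `2 x y + y² (r + s) = a y`.  Traces: `N (x + z) = n r₀`, all-one vector: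
`x + y k + z N = r₀ c = a + λ n`, so `a (n - 1) = (N - 1) x - y k`.  `y = 0` gives `x = a` (`n = N`, excluded by
`card_lt`) or `x = 0` (`n = 1`).  Else `a = 2 x + y (r + s)`, `(x + y r) (x + y s) = 0`. -/
theorem Tw.srg (h : Tw G Ω) {y : Y} (hy : ¬ Tr (stabilizer G y) Ω) (adj : Y → Y → Prop)
    (hs : ∀ u v, adj u v → adj v u) (hi : ∀ u, ¬ adj u u) (hG : ∀ (g : G) u v, adj u v → adj (g • u) (g • v))
    (h1 : ∀ u v u' v', adj u v → adj u' v' → ∃ g : G, g • u = u' ∧ g • v = v')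
    (h2 : ∀ u v u' v', u ≠ v → ¬ adj u v → u' ≠ v' → ¬ adj u' v' → ∃ g : G, g • u = u' ∧ g • v = v')
    {k μ : ℕ} (hk : Nat.card {v // adj y v} = k) (h0 : 0 < k) (hN : k + 1 < Nat.card Y)
    (hμ : ∃ v, y ≠ v ∧ ¬ adj y v ∧ Nat.card {w // adj y w ∧ adj v w} = μ) {r s : ℤ} (hrs : r * s = μ - k)
    (hl : (k : ℤ) * (k - (r + s + μ) - 1) = (Nat.card Y - 1 - k) * μ) :
    (Nat.card Ω - 1 : ℤ) * (r - s) = -k - s * (Nat.card Y - 1) ∨
      (Nat.card Ω - 1 : ℤ) * (s - r) = -k - r * (Nat.card Y - 1) := by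
  classical
  cases nonempty_fintype Ω
  cases nonempty_fintype Y
  obtain ⟨v₂, n2, a2, hμ⟩ := hμ
  obtain ⟨⟨v₁, a1⟩⟩ : Nonempty {v // adj y v} := (Nat.card_pos_iff.1 (hk ▸ h0)).1
  have n1 : y ≠ v₁ := fun e => hi y (e ▸ a1)
  have hlt := h.card_lt (fun hY => by
    obtain ⟨g, e, e'⟩ := hY.two y v₁ y v₂ n1 n2
    exact a2 (by simpa only [e, e'] using hG g _ _ a1)) hy
  have h2n := h.two_le
  obtain ⟨M, α, l, hI, hα, hl0, hr, h3⟩ := exists_M h hy
  let A : Matrix Y Y ℚ := Matrix.of fun u v => if adj u v then 1 else 0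
  have hA : ∀ u v, A u v = if adj u v then 1 else 0 := fun _ _ => rfl
  have hIA : Fish.Inv G A := fun g u v => by
    rw [hA, hA]
    exact if_congr ⟨fun e => by simpa using hG g⁻¹ _ _ e, hG g u v⟩ rfl rfl
  have hAs : ∀ u v, A u v = A v u := fun u v => if_congr ⟨hs u v, hs v u⟩ rfl rfl
  have dec : ∀ D : Matrix Y Y ℚ, Fish.Inv G D → D = (D y y - D y v₂) • (1 : Matrix Y Y ℚ) +
      (D y v₁ - D y v₂) • A + D y v₂ • J Y Y := fun D hD => by
    ext u v
    by_cases e : u = v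
    · subst e
      obtain ⟨g, rfl⟩ := exists_smul_eq G y u
      simp [hD g, J_apply, hA, hi]
    by_cases e' : adj u v
    · obtain ⟨g, rfl, rfl⟩ := h1 _ _ _ _ a1 e'
      simp [hD g, J_apply, hA, e', one_apply_ne e]
    · obtain ⟨g, rfl, rfl⟩ := h2 _ _ _ _ n2 a2 e e'
      simp [hD g, J_apply, hA, e', one_apply_ne e]
  have ind : ∀ x₁ x₂ x₃ y₁ y₂ y₃ : ℚ, x₁ • (1 : Matrix Y Y ℚ) + x₂ • A + x₃ • J Y Y =
      y₁ • (1 : Matrix Y Y ℚ) + y₂ • A + y₃ • J Y Y → x₁ = y₁ ∧ x₂ = y₂ := fun _ _ _ _ _ _ e => by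
    have e0 := congrFun (congrFun e y) y
    have e1 := congrFun (congrFun e y) v₁
    have e2 := congrFun (congrFun e y) v₂
    simp [J_apply, hA, hi, a1, a2, one_apply_ne n1, one_apply_ne n2] at e0 e1 e2
    constructor <;> linarith
  have cnt : ∀ p : Y → Prop, ∑ u, (if p u then (1 : ℚ) else 0) = Nat.card {u // p u} := fun p => by
    rw [Finset.sum_boole, Nat.card_eq_fintype_card, Fintype.card_subtype]
  have rA : ∀ u, ∑ v, A u v = k := fun u => by rw [hIA.row u y, ← hk, ← cnt]; rfl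
  have AJ := mul_J rA Y
  have JA := J_mul (M := A) (fun u => by simpa only [hAs _ u] using rA u) Y
  have JJ : J Y Y * J Y Y = (Nat.card Y : ℚ) • J Y Y := mul_J (fun u => by simp [J_apply]) Y
  have d0 : (A * A) y y = k := by
    rw [mul_apply, ← rA y]
    exact Finset.sum_congr rfl fun u _ => by rw [hAs u y, hA]; split_ifs <;> simp
  have d2 : (A * A) y v₂ = μ := by
    rw [mul_apply, ← hμ, ← cnt]
    exact Finset.sum_congr rfl fun u _ => by rw [hAs u v₂, hA, hA, ite_zero_mul_ite_zero, mul_one]; congr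
  have AA := dec _ (hIA.mul hIA)
  rw [d0, d2] at AA
  have hrs' : (r : ℚ) * s = μ - k := by exact_mod_cast hrs
  have hl' : (k : ℚ) * (k - (r + s + μ) - 1) = (Nat.card Y - 1 - k) * μ := by exact_mod_cast hl
  have d1 : (A * A) y v₁ = r + s + μ := by
    generalize (A * A) y v₁ = t at AA ⊢
    have e := Matrix.ext_iff.2 (congrArg (· * J Y Y) AA) y y
    simp only [Matrix.mul_assoc, AJ, Matrix.mul_smul, Matrix.add_mul, Matrix.smul_mul, Matrix.one_mul, JJ,
      Matrix.add_apply, Matrix.smul_apply, J_apply, smul_eq_mul] at e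
    refine mul_left_cancel₀ (show (k : ℚ) ≠ 0 by positivity) ?_
    linear_combination hl' - e
  rw [d1] at AA
  obtain ⟨c, hc⟩ : ∃ c, ∀ u, ∑ a, M a u = c := ⟨_, fun u => hI.tr.row u y⟩
  obtain ⟨x, w, z, hS⟩ : ∃ x w z : ℚ, Mᵀ * M = x • (1 : Matrix Y Y ℚ) + w • A + z • J Y Y :=
    ⟨_, _, _, dec _ (hI.tr.mul hI)⟩
  have s1 : Mᵀ * M * (Mᵀ * M) = α • (Mᵀ * M) + (l * c ^ 2) • J Y Y := by
    rw [Matrix.mul_assoc, ← Matrix.mul_assoc M, h3]
    simp only [Matrix.add_mul, Matrix.mul_add, Matrix.smul_mul, Matrix.mul_smul, Matrix.one_mul,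
      J_mul hc, mul_J (M := Mᵀ) hc]
    module
  obtain ⟨q1, q2⟩ := ind (x ^ 2 + w ^ 2 * (k - μ)) (2 * x * w + w ^ 2 * (r + s))
    (2 * x * z + 2 * w * z * k + z ^ 2 * Nat.card Y + w ^ 2 * μ) (α * x) (α * w) (α * z + l * c ^ 2) (by
      rw [hS] at s1
      simp only [Matrix.add_mul, Matrix.mul_add, Matrix.smul_mul, Matrix.mul_smul, Matrix.one_mul,
        Matrix.mul_one, AJ, JA, JJ] at s1
      rw [AA] at s1
      linear_combination (norm := module) s1)
  have q3 : (Nat.card Y : ℚ) * (x + z) = Nat.card Ω * (α + l) := by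
    have e := trace_mul_comm Mᵀ M
    rw [hS, h3] at e
    simp [trace, J_apply, hA, hi] at e
    simp only [Nat.card_eq_fintype_card]
    linear_combination e
  have q4 : x + w * k + z * Nat.card Y = α + l * Nat.card Ω := by
    obtain ⟨a, -⟩ := h.nt
    have e := Matrix.ext_iff.2 (congrArg (· * J Y Y) hS) y y
    have e' := Matrix.ext_iff.2 (congrArg (· * J Ω Ω) h3) a a
    have JJ' : J Ω Ω * J Ω Ω = (Nat.card Ω : ℚ) • J Ω Ω := mul_J (fun u => by simp [J_apply]) Ω
    simp only [Matrix.mul_assoc, AJ, Matrix.mul_smul, Matrix.add_mul, Matrix.smul_mul, Matrix.one_mul, JJ, JJ',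
      mul_J hr, mul_J (M := Mᵀ) hc, Matrix.add_apply, Matrix.smul_apply, J_apply, smul_eq_mul] at e e'
    linear_combination e' - e
  have q5 : α * (Nat.card Ω - 1) = (Nat.card Y - 1) * x - w * k := by linear_combination q4 - q3
  have hw : w ≠ 0 := by
    rintro rfl
    have h2n' : (2 : ℚ) ≤ Nat.card Ω := by exact_mod_cast h2n
    have hlt' : (Nat.card Ω : ℚ) < Nat.card Y := by exact_mod_cast hlt
    rcases mul_eq_zero.1 (show x * (x - α) = 0 by linear_combination q1) with e | e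
    · rw [e] at q5; nlinarith
    · rw [sub_eq_zero.1 e] at q5; nlinarith
  have q6 : α = 2 * x + w * (r + s) := mul_left_cancel₀ hw (by linear_combination -q2)
  rcases mul_eq_zero.1 (show (x + w * s) * (x + w * r) = 0 by
    linear_combination -q1 - x * q6 + w ^ 2 * hrs') with e | e
  · left
    have : ((Nat.card Ω : ℚ) - 1) * (r - s) = -k - s * (Nat.card Y - 1) := mul_left_cancel₀ hw (by
      linear_combination q5 - (Nat.card Ω - 1 : ℚ) * q6 + (Nat.card Y - 1 - 2 * (Nat.card Ω - 1) : ℚ) * e)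
    exact_mod_cast this
  · right
    have : ((Nat.card Ω : ℚ) - 1) * (s - r) = -k - r * (Nat.card Y - 1) := mul_left_cancel₀ hw (by
      linear_combination q5 - (Nat.card Ω - 1 : ℚ) * q6 + (Nat.card Y - 1 - 2 * (Nat.card Ω - 1) : ℚ) * e)
    exact_mod_cast this

end CL.T2
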