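/-
CLAS/T2 (S2193): the small Ree groups
-/
import Cfsg.Agent.CLAS.T2.Fish
import Cfsg.Agent.CLAS.T2.Heis
import Cfsg.Agent.CLAS.T2.Blk
import Cfsg.Agent.CHEV.ReeSub
import Cfsg.Agent.CHEV.ReeConcrete
import Cfsg.Agent.S5892
import Cfsg.Agent.FGS.NSol1
import Cfsg.Agent.FGS.PrimSub
import Cfsg.Agent.SOLV.OddOrderCor
import Cfsg.Agent.SOLV.FH.Fr

set_option autoImplicit false

namespace CL.T2

open Cfsg Cfsg.Lie

namespace ReeX
open Subgroup MulAction CL.Ree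

theorem psl_sub {F : Type*} [Field F] [Fintype F] [CharP F 3] {m : ℕ} (hm : 1 ≤ m)
    (hF : Fintype.card F = 3 ^ (2 * m + 1)) (L : Subgroup (Matrix.ProjectiveSpecialLinearGroup (Fin 2) F))
    (h : Fintype.card F + 1 ∣ Nat.card L) : L = ⊤ ∨ Nat.card L = Fintype.card F + 1 := by
  refine (eq_top_or_exists_le_coatom L).imp_right fun ⟨N, hN, hL⟩ => ?_
  have h27 : 27 ≤ Fintype.card F :=
    hF ▸ Nat.pow_le_pow_right (show 0 < 3 by norm_num) (show 3 ≤ 2 * m + 1 by omega)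
  have h1 := card_dvd_of_le hL
  have h2 := h.trans h1
  have h3 := Nat.le_of_dvd Nat.card_pos h2
  have : Fact (Nat.Prime 3) := ⟨Nat.prime_three⟩
  rcases Cfsg.Agent.S5892.result 3 (hF ▸ Odd.pow (by decide)) (by omega) N hN with e | ⟨-, k, hk, ⟨e⟩⟩ |
    ⟨-, -, k, hk, ⟨e⟩⟩ | ⟨F₀, _, _, e, -⟩ | ⟨F₀, _, _, r, hr, ho, e, ⟨f⟩⟩ | ⟨-, e, -⟩ | ⟨e, -⟩ | ⟨e, -⟩
  · obtain ⟨q, hq⟩ : ∃ q, Fintype.card F = q + 1 := ⟨Fintype.card F - 1, by omega⟩
    have h4 := h2.mul_left 2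
    rw [e, hq, Nat.add_sub_cancel] at h4
    have := Nat.le_of_dvd (by norm_num) ((Nat.dvd_add_right (dvd_mul_right (q + 1 + 1) (q - 1))).1
      ((show (q + 1) * q = (q + 1 + 1) * (q - 1) + 2 by
        obtain ⟨q, rfl⟩ : ∃ x, q = x + 1 := ⟨q - 1, by omega⟩
        rw [Nat.add_sub_cancel]; ring) ▸ h4))
    omega
  · rw [Nat.card_congr e.toEquiv, DihedralGroup.nat_card] at h3
    omega
  · rw [Nat.card_congr e.toEquiv, DihedralGroup.nat_card, hk] at h1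
    exact Nat.dvd_antisymm h1 h
  · have := congrArg (padicValNat 3) (hF.symm.trans e)
    rw [padicValNat.prime_pow, padicValNat.pow] at this
    omega
  · have h4 := CL.SL.gcd_mul_card_PSL_two (F := F₀)
    rw [← Nat.card_congr f.toEquiv, Nat.card_eq_fintype_card (α := F₀)] at h4
    have h5 : Fintype.card F₀ ^ 3 ≤ Fintype.card F := e ▸ Nat.pow_le_pow_right Fintype.card_pos (by
      have := hr.two_le
      obtain ⟨k, rfl⟩ := ho
      omega)
    have h6 : Nat.card N ≤ Fintype.card F₀ * Fintype.card F₀ ^ 2 :=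
      (Nat.le_mul_of_pos_left _ (Nat.gcd_pos_of_pos_left _ two_pos)).trans
        (h4.le.trans (Nat.mul_le_mul_left _ (Nat.sub_le _ _)))
    rw [← pow_succ'] at h6
    exact absurd (h3.trans (h6.trans h5)) (by omega)
  all_goals omega

theorem num {q t s x n : ℕ} (hq : 27 ≤ q) (hs : q ^ 3 = s * t) (ho : Odd t) (h : t = q ∨ 3 * q ≤ t)
    (hn : 2 * (n + 1) = t * (q - 1)) (hx : 2 * (q ^ 3 + 1) = n * x) : False := by
  obtain ⟨p, rfl⟩ : ∃ p, q = p + 2 := ⟨q - 2, by omega⟩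
  rw [show p + 2 - 1 = p + 1 from rfl] at hn
  rcases h with rfl | h
  · have h1 : p * x = 4 * (p * (p + 3) + 3) := Nat.eq_of_mul_eq_mul_left (show 0 < p + 3 by omega) (by
      zify at *; linear_combination -2 * hx - x * hn)
    have := Nat.le_of_dvd (by norm_num) ((Nat.dvd_add_right (dvd_mul_right p (4 * (p + 3)))).1
      (⟨x, by linarith⟩ : p ∣ p * (4 * (p + 3)) + 12))
    omega
  · have h1 : t ∣ 2 * (x + 2) := by
      have : t * ((p + 1) * x) = t * (4 * s) + 2 * (x + 2) := by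
        zify at *; linear_combination -2 * hx - x * hn + 4 * hs
      exact (Nat.dvd_add_right (dvd_mul_right _ _)).1 (this ▸ dvd_mul_right _ _)
    have h2 := Nat.le_of_dvd (by omega) (ho.coprime_two_right.dvd_of_dvd_mul_left h1)
    have h3 : 3 * (p + 2) * (p + 1) ≤ 2 * (n + 1) := hn ▸ Nat.mul_le_mul_right _ h
    have h4 := Nat.mul_le_mul (show 3 * p ^ 2 + 9 * p + 4 ≤ 2 * n by nlinarith) (show 3 * p + 4 ≤ x by omega)
    have h5 := Nat.pow_le_pow_left (show 2 ≤ p by omega) 2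
    nlinarith [Nat.zero_le (p ^ 3)]

theorem idx2 {G : Type*} [Group G] {R Q : Subgroup G} (h : R ≤ Q) {a : G} (ha : a ∈ Q) (ha' : a ∉ R)
    (hx : ∀ b ∈ Q, b * a ∈ R ∨ b ∈ R) : Nat.card Q = 2 * Nat.card R := by
  rw [← (R.subgroupOf Q).index_mul_card, Nat.card_congr (subgroupOfEquivOfLe h).toEquiv]
  exact congrArg (· * _) (relIndex_eq_two_iff_exists_notMem_and.2 ⟨a, ha, ha', hx⟩)

theorem card_pair {G Ω : Type*} [Group G] [Finite G] [MulAction G Ω] [Finite Ω] (h : Tw G Ω) {a b : Ω} (hab : a ≠ b) :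
    Nat.card G = Nat.card Ω * (Nat.card Ω - 1) * Nat.card (stabilizer G a ⊓ stabilizer G b : Subgroup G) := by
  have e : orbit (stabilizer G a) b = Set.univ \ {a} := Set.ext fun c => by
    rw [Blk.mem_orb]
    refine ⟨fun ⟨x, hx, e⟩ => ⟨trivial, fun e' => hab (MulAction.injective x (hx.trans (e'.symm.trans e.symm)))⟩,
      fun hc => ?_⟩
    obtain ⟨g, e⟩ := h.two a b a c hab (Ne.symm hc.2)
    exact ⟨g, e⟩
  rw [← (stabilizer G a).index_mul_card, h.index, Blk.oc (stabilizer G a) b, e,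
    Set.ncard_sdiff_singleton_of_mem (Set.mem_univ a), Set.ncard_univ, ← mul_assoc]

variable {F G Ω : Type*} [Field F] [CharP F 3] [Fintype F] {σ : F →+* F} [Group G] [MulAction G Ω] [Finite Ω]
  (M : Model σ G)

theorem conj_in {K : Subgroup G} (hε : M.ε ∈ K) {g : G} (hK : g ∈ K) (hg : g ∈ M.B) (h : IsConj M.ε g) :
    ∃ v ∈ K ⊓ M.U, v * M.ε * v⁻¹ = g := by
  obtain ⟨c, rfl⟩ := isConj_iff.1 h
  have g2 : c * M.ε * c⁻¹ * (c * M.ε * c⁻¹) = 1 := by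
    rw [conj_mul, M.ε_mul_ε, mul_one, mul_inv_cancel]
  obtain ⟨v, hv, e⟩ := M.exists_conj_ε_of_mem_B hg (by simpa using M.ε_ne_one) g2
  generalize c * M.ε * c⁻¹ = g at *
  have hx : g * M.ε ∈ M.U := by
    have := mul_mem hv (M.conj_mem_U M.ε_mem_B (inv_mem hv))
    rwa [M.ε_inv, show v * (M.ε * v⁻¹ * M.ε) = v * M.ε * v⁻¹ * M.ε by group,
      show v * M.ε * v⁻¹ = g by rw [← e]; group] at this
  refine ⟨(g * M.ε) ^ 5, pow_mem (mem_inf.2 ⟨mul_mem hK hε, hx⟩) 5, ?_⟩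
  have h1 : M.ε * (g * M.ε)⁻¹ * M.ε⁻¹ = g * M.ε := by
    rw [mul_inv_rev, M.ε_inv, inv_eq_of_mul_eq_one_right g2, ← mul_assoc, M.ε_mul_ε, one_mul]
  have h2 : M.ε * ((g * M.ε) ^ 5)⁻¹ * M.ε⁻¹ = (g * M.ε) ^ 5 := by rw [← inv_pow, ← conj_pow, h1]
  calc _ = (g * M.ε) ^ 5 * (M.ε * ((g * M.ε) ^ 5)⁻¹ * M.ε⁻¹) * M.ε := by group
    _ = (g * M.ε) ^ 9 * (g * (M.ε * M.ε)) := by rw [h2, ← pow_add, pow_succ _ 9, mul_assoc, mul_assoc]
    _ = g := by rw [M.pow_nine_of_mem_U hx, M.ε_mul_ε]; group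

theorem card_cen {K : Subgroup G} (hK : Tr K M.Ω) (hε : M.ε ∈ K) :
    Nat.card (K ⊓ centralizer {M.ε} : Subgroup G) =
      (Nat.card F + 1) * Nat.card (K ⊓ centralizer {M.ε} ⊓ M.B : Subgroup G) := by
  have := M.finite_G
  rw [Blk.oc _ M.inf, M.stabilizer_inf]
  congr 1
  have e : orbit (K ⊓ centralizer {M.ε} : Subgroup G) M.inf = insert M.inf (Set.range fun y => M.pt 0 y 0) := by
    ext a
    have h1 : M.ε • a = a ↔ a ∈ insert M.inf (Set.range fun y => M.pt 0 y 0) := by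
      rcases M.eq_inf_or_eq_pt a with rfl | ⟨a, y, z, rfl⟩
      · simp [M.ε_smul_inf]
      · rw [M.ε_smul_pt, M.pt_eq_iff, Set.mem_insert_iff, or_iff_right (M.pt_ne_inf _ _ _)]
        have key : ∀ a : F, -a = a → a = 0 := fun a h => by
          have h3 : (3 : F) = 0 := CharP.cast_eq_zero F 3
          linear_combination h + a * h3
        refine ⟨fun h => ⟨y, by rw [key a h.1, key z h.2.2]⟩, fun ⟨y', h⟩ => ?_⟩
        obtain ⟨rfl, -, rfl⟩ := M.pt_inj h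
        simp
    refine Iff.trans Blk.mem_orb (Iff.trans ?_ h1)
    refine ⟨fun ⟨x, hx, e⟩ => by
      rw [← e, ← mul_smul, ← mem_centralizer_singleton_iff.1 hx.2, mul_smul, M.ε_smul_inf], fun h => ?_⟩
    obtain ⟨k, hk, rfl⟩ := hK M.inf a
    obtain ⟨v, hv, e⟩ := conj_in M hε (g := k⁻¹ * M.ε * k) (mul_mem (mul_mem (inv_mem hk) hε) hk)
      (M.smul_inf_eq_inf.1 (by rw [mul_smul, mul_smul, h, inv_smul_smul])) (isConj_iff.2 ⟨k⁻¹, by group⟩)
    refine ⟨k * v, ⟨mul_mem hk hv.1, mem_centralizer_singleton_iff.2 ?_⟩, by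
      rw [mul_smul, M.smul_inf_eq_inf.2 (M.U_le_B hv.2)]⟩
    calc _ = k * (v * M.ε * v⁻¹) * v := by group
      _ = _ := by rw [e]; group
  refine (congrArg Set.ncard e).trans ?_
  rw [Set.ncard_insert_of_notMem (by rintro ⟨y, h⟩; exact M.pt_ne_inf _ _ _ h),
    Set.ncard_range_of_injective fun y y' h => (M.pt_inj h).2.1]

theorem cen_cases {m : ℕ} (hm : 1 ≤ m) (hF : Fintype.card F = 3 ^ (2 * m + 1)) {K : Subgroup G} (hK : Tr K M.Ω)
    (hε : M.ε ∈ K) : centralizer {M.ε} ≤ K ∨ ∀ g ∈ K ⊓ centralizer {M.ε} ⊓ M.B, g = 1 ∨ g = M.ε := by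
  have := M.finite_G
  let f : Matrix.ProjectiveSpecialLinearGroup (Fin 2) F →* G := QuotientGroup.lift _ M.φ M.ker_φ.ge
  have hf : Function.Injective f := (injective_iff_map_eq_one f).2 fun A h => by
    obtain ⟨A, rfl⟩ := QuotientGroup.mk_surjective A
    exact (QuotientGroup.eq_one_iff _).2 (M.ker_φ.le h)
  have hεC : M.ε ∈ centralizer {M.ε} := mem_centralizer_singleton_iff.2 rfl
  have h1 : Nat.card (K ⊓ centralizer {M.ε} : Subgroup G) = 2 * Nat.card (K.comap f) := by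
    rw [← card_map_of_injective hf]
    refine idx2 ?_ (mem_inf.2 ⟨hε, hεC⟩) ?_ fun b hb => ?_
    · rintro _ ⟨A, hA, rfl⟩
      obtain ⟨A, rfl⟩ := QuotientGroup.mk_surjective A
      exact ⟨hA, M.mem_centralizer_ε.2 ⟨A, M.over_φ A⟩⟩
    · rintro ⟨A, -, e⟩
      obtain ⟨A, rfl⟩ := QuotientGroup.mk_surjective A
      exact M.φ_ne_ε A e
    · obtain ⟨A, rfl | rfl⟩ := M.mem_centralizer_ε.1 hb.2
      · exact Or.inr ⟨A, hb.1, rfl⟩
      · have e : M.ε * M.φ A * M.ε = M.φ A := by rw [M.ε_mul_φ, mul_assoc, M.ε_mul_ε, mul_one]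
        exact Or.inl ⟨A, (e ▸ mul_mem hb.1 hε : M.φ A ∈ K), e.symm⟩
  have h2 := card_cen M hK hε
  have hz : zpowers M.ε ≤ K ⊓ centralizer {M.ε} ⊓ M.B := zpowers_le.2 ⟨⟨hε, hεC⟩, M.ε_mem_B⟩
  have ho : Nat.card (zpowers M.ε) = 2 := by
    rw [Nat.card_zpowers, orderOf_eq_prime (by rw [sq, M.ε_mul_ε]) M.ε_ne_one]
  obtain ⟨c, hc⟩ := card_dvd_of_le hz
  rw [h1, hc, ho, Nat.card_eq_fintype_card (α := F)] at h2
  refine (psl_sub hm hF (K.comap f) ⟨c, by linarith⟩).imp (fun h g hg => ?_) fun h g hg => ?_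
  · have : ∀ A, M.φ A ∈ K := fun A => h.ge (mem_top (QuotientGroup.mk A))
    obtain ⟨A, rfl | rfl⟩ := M.mem_centralizer_ε.1 hg
    exacts [this A, mul_mem hε (this A)]
  · obtain rfl : c = 1 := Nat.eq_of_mul_eq_mul_left (show 0 < 2 * (Fintype.card F + 1) by omega) (by rw [h] at h2; linarith)
    obtain ⟨k, rfl⟩ := (eq_of_le_of_card_ge hz (by rw [hc, mul_one])).ge hg
    rcases Int.even_or_odd' k with ⟨j, rfl | rfl⟩ <;> simp only [zpow_add, zpow_mul, zpow_two, M.ε_mul_ε] <;> simp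

omit [Fintype F] [Finite Ω] in
theorem tr_stab (ht : Tr M.B Ω) (ω : Ω) : Tr (stabilizer G ω) M.Ω := by
  have key : ∀ y : M.Ω, ∃ k ∈ stabilizer G ω, k • M.inf = y := fun y => by
    obtain ⟨g, rfl⟩ := MulAction.exists_smul_eq G M.inf y
    obtain ⟨b, hb, e⟩ := ht ω (g⁻¹ • ω)
    exact ⟨g * b, by rw [mem_stabilizer_iff, mul_smul, e, smul_inv_smul], by rw [mul_smul, M.smul_inf_eq_inf.2 hb]⟩
  intro a b
  obtain ⟨x, hx, rfl⟩ := key a
  obtain ⟨y, hy, rfl⟩ := key b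
  exact ⟨y * x⁻¹, mul_mem hy (inv_mem hx), by rw [mul_smul, inv_smul_smul]⟩

omit [Finite Ω] in
theorem fix {L : Subgroup G} (h : 2 ∣ Nat.card L) : ∃ c : G, ∀ ω : Ω, L ≤ stabilizer G ω → M.ε • c • ω = c • ω := by
  have := M.finite_G
  obtain ⟨g, hg⟩ := exists_prime_orderOf_dvd_card' 2 h
  rw [← orderOf_coe] at hg
  obtain ⟨c, e⟩ := isConj_iff.1 (M.isConj_ε (g := g) (fun e => by simp [e] at hg) (by rw [← sq, ← hg, pow_orderOf_eq_one]))
  refine ⟨c⁻¹, fun ω hω => ?_⟩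
  rw [eq_inv_smul_iff, ← mul_smul, ← mul_smul, e]
  exact hω g.2

theorem caseB {m : ℕ} (hm : 1 ≤ m) (hq : Nat.card F = 3 ^ (2 * m + 1)) (tw : Tw G Ω) (ht : Tr M.B Ω) {ω : Ω}
    (hε : M.ε ∈ stabilizer G ω) (h : ∀ g ∈ stabilizer G ω ⊓ centralizer {M.ε} ⊓ M.B, g = 1 ∨ g = M.ε) : False := by
  have := M.finite_G
  have h27 : 27 ≤ Nat.card F := hq ▸ Nat.pow_le_pow_right (show 0 < 3 by norm_num) (show 3 ≤ 2 * m + 1 by omega)
  have e1 := ht.card_eq ω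
  have e2 := tw.mul_pred_dvd
  set K := stabilizer G ω
  have e3 : Nat.card (M.B ⊓ K : Subgroup G) = 2 * Nat.card (K ⊓ M.U : Subgroup G) := by
    refine idx2 (fun g hg => ⟨M.U_le_B hg.2, hg.1⟩) (mem_inf.2 ⟨M.ε_mem_B, hε⟩) (fun h => M.ε_not_mem_U h.2) fun g hg => ?_
    obtain ⟨v, hv, e⟩ := conj_in M hε (g := g * M.ε * g⁻¹) (mul_mem (mul_mem hg.2 hε) (inv_mem hg.2))
      (mul_mem (mul_mem hg.1 M.ε_mem_B) (inv_mem hg.1)) (isConj_iff.2 ⟨g, rfl⟩)
    rcases h (v⁻¹ * g) ⟨⟨K.mul_mem (K.inv_mem hv.1) hg.2, mem_centralizer_singleton_iff.2 (by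
      calc _ = v⁻¹ * (g * M.ε * g⁻¹) * g := by group
        _ = _ := by rw [← e]; group)⟩, M.B.mul_mem (M.B.inv_mem (M.U_le_B hv.2)) hg.1⟩ with e | e
    · exact Or.inr (inv_mul_eq_one.1 e ▸ hv)
    · exact Or.inl (by rwa [inv_mul_eq_iff_eq_mul.1 e, mul_assoc, M.ε_mul_ε, mul_one])
  have e4 := CL.PrimSub.card_mul_card_le (inf_le_right : K ⊓ M.U ≤ M.U) (inf_le_right : centralizer {M.ε} ⊓ M.U ≤ M.U)
  have e5 : K ⊓ M.U ⊓ (centralizer {M.ε} ⊓ M.U) = ⊥ := eq_bot_iff.2 fun g hg =>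
    (h g ⟨⟨hg.1.1, hg.2.1⟩, M.U_le_B hg.1.2⟩).resolve_right fun e => M.ε_not_mem_U (e ▸ hg.1.2)
  have e6 : Nat.card F ≤ Nat.card (centralizer {M.ε} ⊓ M.U : Subgroup G) := Nat.card_le_card_of_injective
    (fun y => ⟨M.u 0 y 0, mem_centralizer_singleton_iff.2 (M.ε_mul_u_y y).symm, M.u_mem_U _ _ _⟩)
    fun y y' e => (M.u_inj (Subtype.mk.inj e)).2.1
  obtain ⟨t, hs⟩ := card_dvd_of_le (inf_le_right : K ⊓ M.U ≤ M.U)
  rw [e5, card_bot, one_mul, hs] at e4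
  rw [M.card_U] at hs
  rw [M.card_G, ← M.card_B, e1, mul_assoc, e3] at e2
  rw [M.card_B, e3, hs] at e1
  have h0 : 0 < Nat.card (K ⊓ M.U : Subgroup G) := Nat.card_pos
  generalize Nat.card (K ⊓ M.U : Subgroup G) = s at *
  have h1 := e6.trans (Nat.le_of_mul_le_mul_left e4 h0)
  obtain ⟨j, -, rfl⟩ := (Nat.dvd_prime_pow Nat.prime_three).1 (Dvd.intro_left s (by rw [← hs, hq, ← pow_mul]) :
    t ∣ 3 ^ ((2 * m + 1) * 3))
  have h2 : 2 * m + 1 ≤ j := (Nat.pow_le_pow_iff_right (by norm_num)).1 (hq ▸ h1)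
  have := tw.nt
  obtain ⟨n, hn⟩ : ∃ n, Nat.card Ω = n + 1 := ⟨Nat.card Ω - 1, by have := Nat.card_pos (α := Ω); omega⟩
  rw [hn] at e1 e2
  have h3 : 2 * (n + 1) = 3 ^ j * (Nat.card F - 1) := Nat.eq_of_mul_eq_mul_left h0 (by linarith)
  have h4 : 3 ∣ 2 * (n + 1) := h3 ▸ (dvd_pow_self 3 (by omega)).mul_right _
  have h5 : n.Coprime s := (((Nat.prime_three.coprime_iff_not_dvd.2 (by omega)).pow_left ((2 * m + 1) * 3)).symm).coprime_dvd_right
    (Dvd.intro _ (by rw [← hs, hq, ← pow_mul]))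
  obtain ⟨x, hx⟩ := h5.dvd_of_dvd_mul_left (by
    rw [← mul_assoc, mul_comm s]; exact Nat.dvd_of_mul_dvd_mul_left n.succ_pos e2 : n ∣ s * (2 * (Nat.card F ^ 3 + 1)))
  refine num h27 hs (Odd.pow (by decide)) (h2.eq_or_lt.imp (fun e => by rw [hq, e]) fun e => ?_) h3 hx
  rw [hq, ← pow_succ']
  exact Nat.pow_le_pow_right (by norm_num) e

theorem caseA {m : ℕ} (hm : 1 ≤ m) (hq : Nat.card F = 3 ^ (2 * m + 1)) (tw : Tw G Ω) (ht : Tr M.B Ω) {ω : Ω}
    (hε : M.ε • ω = ω) (h : ∀ ω : Ω, M.ε • ω = ω → centralizer {M.ε} ≤ stabilizer G ω) : False := by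
  have := M.finite_G
  have : Fact (Nat.Prime 3) := ⟨Nat.prime_three⟩
  have h27 : 3 ^ 3 ∣ Nat.card F := hq ▸ pow_dvd_pow 3 (show 3 ≤ 2 * m + 1 by omega)
  obtain ⟨k, hk⟩ : ∃ k, Nat.card F = 8 * k + 3 := ⟨Nat.card F / 8, by have := M.card_mod_eight; omega⟩
  have e1 := card_cen M (tr_stab M ht ω) hε
  rw [inf_eq_right.2 (h ω hε), M.card_centralizer_ε] at e1
  obtain ⟨c, e2⟩ := card_dvd_of_le (show centralizer {M.ε} ⊓ M.B ≤ M.B ⊓ stabilizer G ω from fun g hg => ⟨hg.2, h ω hε hg.1⟩)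
  have e3 := ht.card_eq ω
  rw [mul_comm (Nat.card F), mul_assoc] at e1
  rw [e2, ← Nat.eq_of_mul_eq_mul_left (Nat.succ_pos _) e1, M.card_B] at e3
  have e4 : Nat.card F ^ 2 = Nat.card Ω * c :=
    Nat.eq_of_mul_eq_mul_left (show 0 < Nat.card F * (Nat.card F - 1) by rw [hk]; exact Nat.mul_pos (by omega) (by omega))
      (by linarith)
  obtain ⟨j, -, hj⟩ := (Nat.dvd_prime_pow Nat.prime_three).1 (Dvd.intro c (by rw [← e4, hq, ← pow_mul]) :
    Nat.card Ω ∣ 3 ^ ((2 * m + 1) * 2))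
  have h1 : 1 < Nat.card Ω := Finite.one_lt_card_iff_nontrivial.2 tw.nt
  have h3 : 3 ∣ Nat.card Ω := hj ▸ dvd_pow_self 3 fun e => by rw [hj, e] at h1; omega
  have h2 : Odd (Nat.card Ω) := hj ▸ Odd.pow (by decide)
  obtain ⟨a, b, hab⟩ := tw.nt
  have e5 := card_pair tw hab
  set L := stabilizer G a ⊓ stabilizer G b
  have ho : ¬ 2 ∣ Nat.card L := fun h2' => by
    obtain ⟨c, hc⟩ := fix M (Ω := Ω) h2'
    have h8 : 8 ∣ _ := Dvd.dvd.trans ⟨(8 * k + 3) * (2 * k + 1) * (4 * k + 1), by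
      rw [M.card_centralizer_ε, hk, show 8 * k + 3 - 1 = 8 * k + 2 from rfl]; ring⟩
      (card_dvd_of_le (le_inf (h _ (hc a inf_le_left)) (h _ (hc b inf_le_right))))
    have h16 : 2 ^ 4 ∣ Nat.card G := by
      rw [card_pair tw ((MulAction.injective c).ne hab), mul_assoc]
      exact (Nat.mul_dvd_mul (Nat.Odd.sub_odd h2 odd_one).two_dvd h8).mul_left _
    obtain ⟨P⟩ : Nonempty (Sylow 2 G) := inferInstance
    have := P.pow_dvd_card_of_pow_dvd_card h16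
    rw [M.card_sylow_two] at this
    omega
  have h4 : 3 ^ 3 ∣ Nat.card L := ((Nat.prime_three.coprime_iff_not_dvd.2 (by omega)).pow_left 3).dvd_of_dvd_mul_left
    (h27.trans ⟨c * (Nat.card F - 1) * (Nat.card F ^ 3 + 1), Nat.eq_of_mul_eq_mul_left (by omega : 0 < Nat.card Ω) (by
      rw [← mul_assoc, ← e5, M.card_G, pow_succ, e4]; ring)⟩ : 3 ^ 3 ∣ (Nat.card Ω - 1) * Nat.card L)
  obtain ⟨p, hp, E, hEL, hE, ⟨-, hEp⟩, hN⟩ := CL.FroA.exists_elab
    (CL.isSolvable_of_odd L (Nat.two_dvd_ne_zero.1 ho |> Nat.odd_iff.2)) fun e => by rw [e, card_bot] at h4; omega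
  replace hN := le_normalizer.trans hN
  by_cases h5 : p = 3
  · subst h5
    obtain ⟨g, hg⟩ := M.exists_le_conj_U (A := E) fun x => ⟨1, Subtype.ext (by simpa using hEp x x.2)⟩
    obtain ⟨r, hr⟩ := card_dvd_of_le (hN.trans ((M.conj g).normalizer_le_B hg hE))
    rw [Model.card_B] at hr
    rw [M.card_G, hr] at e5
    have h6 : Nat.card F ^ 3 + 1 ∣ Nat.card Ω * (Nat.card Ω - 1) :=
      ⟨r, Nat.eq_of_mul_eq_mul_left (Nat.card_pos (α := L)) (by linarith)⟩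
    have h7 := Nat.le_of_dvd (by omega) (Nat.Coprime.dvd_of_dvd_mul_left (hj ▸ (Nat.prime_three.coprime_iff_not_dvd.2 fun h =>
      by have := (dvd_pow_self 3 three_ne_zero).trans (h27.trans (dvd_pow_self _ three_ne_zero)); omega).symm.pow_right j) h6)
    have h8 := Nat.le_of_dvd (by rw [hk]; positivity) (Dvd.intro c e4.symm)
    have h9 := Nat.pow_le_pow_right (show 0 < Nat.card F by omega) (show 2 ≤ 3 by norm_num)
    omega
  · obtain ⟨T, hT⟩ := Sylow.exists_subgroup_card_pow_prime 3 h4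
    rw [← card_map_of_injective L.subtype_injective] at hT
    have h6 : ∀ t ∈ T.map L.subtype, ∃ k : G, k⁻¹ * t * k ∈ M.U := fun t ht =>
      M.exists_conj_mem_U (n := 3) (congrArg Subtype.val (hT ▸ pow_card_eq_one' (x := (⟨t, ht⟩ : T.map L.subtype))))
    have := CL.NSol.isCyclic_of_fpf (r := 3) (by norm_num) (IsPGroup.of_card hT) hE ((map_subtype_le T).trans hN)
      fun t ht t1 v hv hc => by
        obtain ⟨k, hk⟩ := h6 t ht
        have h7 := M.pow_eq_one_of_commute (k := k⁻¹ * v * k) hk (fun e => t1 (by simpa [mul_assoc] using congrArg (k * · * k⁻¹) e)) (by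
          calc _ = k⁻¹ * (v * t) * k := by group
            _ = _ := by rw [hc.eq]; group)
        rw [show k⁻¹ * v * k = k⁻¹ * v * k⁻¹⁻¹ by rw [inv_inv], conj_pow, mul_inv_eq_one, ← mul_one k⁻¹, mul_assoc,
          mul_left_cancel_iff, one_mul] at h7
        by_contra v1
        have := Fact.mk hp
        have h8 := orderOf_eq_prime (hEp v hv) v1
        have h9 := orderOf_dvd_natCard L (hEL hv)
        have h10 := orderOf_dvd_of_pow_eq_one h7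
        rw [h8] at h9 h10
        rcases (Nat.Prime.dvd_mul hp).1 (show p ∣ 2 * 3 ^ 2 from h10) with h | h
        · exact ho ((Nat.prime_dvd_prime_iff_eq hp Nat.prime_two).1 h ▸ h9)
        · exact h5 ((Nat.prime_dvd_prime_iff_eq hp Nat.prime_three).1 (hp.dvd_of_dvd_pow h))
    have h7 : Monoid.exponent (T.map L.subtype) ∣ 9 := Monoid.exponent_dvd_of_forall_pow_eq_one fun t => Subtype.ext (by
      obtain ⟨k, hk⟩ := h6 t t.2
      have := congrArg (k * · * k⁻¹) (M.pow_nine_of_mem_U hk)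
      simp only [← conj_pow] at this
      simpa [mul_assoc] using this)
    rw [IsCyclic.exponent_eq_card, hT] at h7
    omega

end ReeX

/-- `G` is 2-transitive on `Y = G ⧸ B`, `|Y| = q³ + 1`.  `B` intransitive on `Ω`: `Tw.card_eq`.  Else `K = G_ω` is transitive
on `Y`, contains an involution `ε`, and `C_K(ε)` is transitive on the `q + 1` points of `Y` fixed by `ε` (`card_cen`); by Dickson
either `C(ε) ≤ K` (`caseA`) or `C_K(ε) ∩ B = ⟨ε⟩` (`caseB`). -/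
theorem ree {F : Type} [Field F] [Fintype F] {m : ℕ} (hm : 1 ≤ m) (hF : Fintype.card F = 3 ^ (2 * m + 1))
    {Ω : Type*} [Finite Ω] [MulAction (twistedG2 F (3 ^ m)) Ω] (tw : Tw (twistedG2 F (3 ^ m)) Ω) :
    Nat.card Ω = Fintype.card F ^ 3 + 1 := by
  have := CL.Ree.charP_three hF
  have hq : Nat.card F = 3 ^ (2 * m + 1) := Nat.card_eq_fintype_card.trans hF
  set M := CL.Ree.model hq
  have := M.finite_G
  have hΩ := M.card_Ω
  rw [← Nat.card_eq_fintype_card, ← hΩ]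
  have tY : Tw (twistedG2 F (3 ^ m)) M.Ω := ⟨Finite.one_lt_card_iff_nontrivial.1 (by
      rw [hΩ]; exact Nat.succ_lt_succ (pow_pos Nat.card_pos 3)),
    fun a b c d h1 h2 => MulAction.is_two_pretransitive_iff.1 M.two_transitive h1 h2⟩
  have := tY.pre
  refine tw.card_eq tY (y := M.inf) fun ht => ?_
  rw [M.stabilizer_inf] at ht
  by_cases hA : ∀ ω : Ω, M.ε • ω = ω → Subgroup.centralizer {M.ε} ≤ MulAction.stabilizer _ ω
  · obtain ⟨ω, -⟩ := tw.nt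
    obtain ⟨c, hc⟩ := ReeX.fix M (Ω := Ω) (L := MulAction.stabilizer _ ω) (by
      rw [(ReeX.tr_stab M ht ω).card_eq M.inf, hΩ, hq]
      exact (((Odd.pow (by decide)).pow).add_one.two_dvd).mul_right _)
    exact ReeX.caseA M hm hq tw ht (hc ω le_rfl) hA
  · obtain ⟨ω, h1⟩ := not_forall.1 hA
    obtain ⟨h1, h2⟩ := Classical.not_imp.1 h1
    exact ReeX.caseB M hm hq tw ht h1 ((ReeX.cen_cases M hm hF (ReeX.tr_stab M ht ω) h1).resolve_left h2)

end CL.T2
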