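/-
CLAS/T2 (S2193): PSL(l, q), l ≥ 3
-/
import Cfsg.Agent.CLAS.T2.Fish
import Cfsg.Agent.CLAS.T2.Heis
import Cfsg.Agent.CLAS.T2.TrB
import Cfsg.Agent.CLAS.T2.SL2
import Cfsg.Agent.S0255

set_option autoImplicit false

namespace CL.T2

open Cfsg Cfsg.Lie

/-- Pull back to `SL(V)` (`Tw.comp`).  `N = (q^l - 1) / (q - 1)`.  CASE I: the stabiliser `P_u` of a point is
intransitive on `Ω`: `Tw.card_eq`, `n = N`.  CASE II: `P_u` transitive.  `blk` with `X = T(u)` (transvections with centre `u`)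
gives `p ∣ n`; `trB_psl`: `N(U)` is transitive for a Sylow `U ≤ P_{u,H}` (`u ∈ H`, hyperplane); `U ≥ T(u) T(H)`, so `N(U)`
fixes `C_V(U) = u` and `⁅V, U⁆ = H`: `P_{u,H}` and `P_H` are transitive.  `semi_or_triv` for `Z = T(u, H)`, `E ≤ T(u)` given by a
2-space of functionals: no transvection fixes a point (TF).  `blk` with `X = T(H)` (semiregular, `κ = q^(l-1)`):
`b (n - 1) = N (q^(l-1) - 1)`, `q^(l-1) ∣ n`, so `b = N' + c q^(l-1)`, `N' = (q^(l-1) - 1) / (q - 1)`: `c = 0`, `n = q^l`; `c = 1`,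
`n = q^(l-1)`; `c ≥ 2` too small.  `n = q^(l-1) < N` contradicts S2140 unless `(l, q) = (4, 2)`, `n = 8` (eighth case).
`n = q^l`: `U` is transitive (`Tr.of_sylow`), `T(H)` has `q` orbits.  `l ≥ 4`: `le_okr_of_class` with `P = P_H`, `Q = T(H)`,
`X = T(x)`, `x ∈ H`, `X₀ = T(x, H)` (`P_{x,H}` is transitive on the functionals vanishing on `x` outside `⟨φ_H⟩`); so all
transvections of `P_H` lie in `okr`; they generate a subgroup containing a Sylow subgroup of `P_H` (it is
`T(H) SL(H)`), so `T(H)` is transitive, `q = 1`.  `l = 3`: `q = 2`: `n = 8`, `G ≅ PSL₂(7)` (S0255; second case).  `q = 4`: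
`SL₂(4)` (Levi of `P_H`) is perfect, `S₄` is solvable, so it lies in `okr` as before.  Other `q`: there are homologies
`h` (eigenvalues `λ, λ, λ⁻²`, `λ³ ≠ 1`) of prime power order, so `h` fixes a point (`exists_fix`): `K = G_ω` contains one,
`K` is transitive on points (CASE II).  Two homologies in `K` with the same centre and different axes (or the same axis and
different centres) have a nontrivial transvection as commutator: so centre `x ↦` axis `A(x) ∌ x` is well defined, injective,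
`K`-equivariant; `y ∈ A(x)` ⇒ `h_x` fixes `y`, so fixes `A(y) ≠ A(x)`, so `x ∈ A(y)`.  `CL.Rk.B2.absolute` (CLAS/RkB2,
`P 0 = ⊤`) gives an absolute point.  Useful: CLAS/PL/* (S2194), KSG/CoopSL. -/
theorem psl {F : Type} [Field F] [Fintype F] {l : ℕ} (hl : 3 ≤ l) {Ω : Type*} [Finite Ω]
    [MulAction (Matrix.ProjectiveSpecialLinearGroup (Fin l) F) Ω]
    (tw : Tw (Matrix.ProjectiveSpecialLinearGroup (Fin l) F) Ω) :
    Concl (Matrix.ProjectiveSpecialLinearGroup (Fin l) F) (Nat.card Ω) := by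
  obtain ⟨p, hp⟩ := CharP.exists F
  have : Fact p.Prime := ⟨CharP.char_is_prime F p⟩
  let e := Matrix.SpecialLinearGroup.toLin'_equiv (n := Fin l) (R := F)
  let π : SpecialLinearGroup F (Fin l → F) →* Matrix.ProjectiveSpecialLinearGroup (Fin l) F :=
    (QuotientGroup.mk' _).comp e.symm.toMonoidHom
  have hπ : Function.Surjective π := (QuotientGroup.mk'_surjective _).comp e.symm.surjective
  have hk : π.ker ≤ Subgroup.center _ := fun g hg => Subgroup.mem_center_iff.2 fun x => e.symm.injective (by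
    rw [map_mul, map_mul]
    exact Subgroup.mem_center_iff.1 ((QuotientGroup.eq_one_iff (e.symm g)).1 hg) _)
  letI := MulAction.compHom Ω π
  have key := SLx.core (p := p) (by simpa using hl) (tw.comp π hπ) fun hn S a b => by
    obtain ⟨g, hg, h⟩ := trB_psl (by omega) tw hn (S.mapSurjective hπ) a b
    obtain ⟨g, rfl⟩ := hπ g
    exact ⟨g, SLx.norm_map hπ hk S hg, h⟩
  rw [Module.finrank_fin_fun, Nat.card_eq_fintype_card (α := F)] at key
  rcases key with h | ⟨rfl | rfl, h1, h2⟩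
  · exact .inl ⟨F, _, _, l, hl, ⟨MulEquiv.refl _⟩, h⟩
  · have : Fact (Nat.Prime 7) := ⟨by norm_num⟩
    obtain ⟨f⟩ := Cfsg.Agent.S0255.result (F := ZMod 7) (K := F) (ZMod.card 7) h1
    exact .inr (.inl ⟨ZMod 7, _, _, by rw [ZMod.card]; norm_num, ⟨f.symm⟩, by rw [ZMod.card, h2]⟩)
  · exact .inr (.inr (.inr (.inr (.inr (.inr (.inr (.inl ⟨F, _, _, h1, ⟨MulEquiv.refl _⟩, h2⟩)))))))

end CL.T2
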